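import Groth.Prelude.Def_W4c2brnrinvarInvFld
import Mathlib

/-!
The no-name lemma: a semilinear representation over a field with faithful action is trivial.
-/

set_option linter.style.haveILetI false

namespace NoName

open MvPolynomial

variable {k L : Type*} [Field k] [Field L] [Algebra k L] (G : Subgroup (L ≃ₐ[k] L))
  {K : IntermediateField k L} {m : ℕ}

lemma map_span_mem (hK : ∀ σ ∈ G, ∀ a ∈ K, σ a ∈ K) {y : Fin m → L}
    (hy : ∀ σ ∈ G, ∀ i, σ (y i) ∈ Submodule.span K (Set.range y)) {σ : L ≃ₐ[k] L} (hσ : σ ∈ G)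
    {w : L} (hw : w ∈ Submodule.span K (Set.range y)) :
    σ w ∈ Submodule.span K (Set.range y) := by
  induction hw using Submodule.span_induction with
  | mem x hx => obtain ⟨i, rfl⟩ := hx; exact hy σ hσ i
  | zero => rw [map_zero]; exact zero_mem _
  | add a b _ _ ha hb => rw [map_add]; exact add_mem ha hb
  | smul a x _ hx =>
    rw [IntermediateField.smul_def, smul_eq_mul, map_mul]
    exact Submodule.smul_mem _ (⟨σ a, hK σ hσ a a.2⟩ : K) hx

lemma sum_mem_fixed [Finite G] (w : L) :
    (letI := Fintype.ofFinite G; ∑ σ : G, σ.1 w) ∈ IntermediateField.fixedField G := by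
  letI := Fintype.ofFinite G
  rw [IntermediateField.mem_fixedField_iff]
  intro τ hτ
  rw [map_sum]
  exact Fintype.sum_equiv (Equiv.mulLeft (⟨τ, hτ⟩ : G)) _ _ fun σ => rfl

/-- Speiser's lemma. -/
lemma exists_invariant_basis [Finite G] (hK : ∀ σ ∈ G, ∀ a ∈ K, σ a ∈ K)
    (hfaith : ∀ σ ∈ G, (∀ a ∈ K, σ a = a) → σ = 1) {y : Fin m → L}
    (hyI : AlgebraicIndependent K y)
    (hy : ∀ σ ∈ G, ∀ i, σ (y i) ∈ Submodule.span K (Set.range y)) :
    ∃ t : Fin m → L, (∀ i, t i ∈ IntermediateField.fixedField G) ∧
      Submodule.span K (Set.range t) = Submodule.span K (Set.range y) ∧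
      AlgebraicIndependent K t := by
  classical
  letI := Fintype.ofFinite G
  set W := Submodule.span K (Set.range y)
  set S : Set L := {w | w ∈ W ∧ w ∈ IntermediateField.fixedField G}
  have hspan : Submodule.span K S = W := by
    refine le_antisymm (Submodule.span_le.2 fun w hw => hw.1) fun v hv => ?_
    by_contra hne
    obtain ⟨φ, hφv, hφ⟩ := Submodule.exists_dual_map_eq_bot_of_notMem hne inferInstance
    have hS : ∀ w ∈ S, φ w = 0 := fun w hw =>
      (Submodule.eq_bot_iff _).1 hφ _ (Submodule.mem_map_of_mem (Submodule.subset_span hw))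
    let χ : G → (K →* L) := fun σ =>
      ((σ.1 : L →ₐ[k] L).toRingHom.comp (algebraMap K L)).toMonoidHom
    have hχ : Function.Injective χ := by
      intro σ τ h
      apply Subtype.ext
      have h' : ∀ a ∈ K, σ.1 a = τ.1 a := fun a ha => congr($h ⟨a, ha⟩)
      have := hfaith (τ.1⁻¹ * σ.1) (G.mul_mem (G.inv_mem τ.2) σ.2) fun a ha => by
        rw [AlgEquiv.mul_apply, h' a ha, ← AlgEquiv.mul_apply, inv_mul_cancel, AlgEquiv.one_apply]
      exact (inv_mul_eq_one.1 this).symm
    have hli := (linearIndependent_monoidHom K L).comp χ hχ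
    rw [Fintype.linearIndependent_iff] at hli
    have h0 := hli (fun σ => (φ (σ.1 v) : L)) (by
      funext a
      have hz : ∑ σ : G, σ.1 ((a : L) * v) ∈ S :=
        ⟨Submodule.sum_mem _ fun σ _ => map_span_mem G hK hy σ.2 (by
          exact Submodule.smul_mem _ a hv), sum_mem_fixed G _⟩
      have h := hS _ hz
      rw [map_sum] at h
      have h' := congrArg (algebraMap K L) h
      rw [map_sum, map_zero] at h'
      simp only [Function.comp_apply, Finset.sum_apply, Pi.smul_apply, smul_eq_mul, Pi.zero_apply]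
      refine Eq.trans (Finset.sum_congr rfl fun σ _ => ?_) h'
      have : σ.1 ((a : L) * v) = (⟨σ.1 a, hK _ σ.2 _ a.2⟩ : K) • σ.1 v := by
        rw [map_mul]; rfl
      rw [this, map_smul, smul_eq_mul, map_mul, mul_comm]
      rfl) 1
    apply hφv
    exact (map_eq_zero_iff _ (algebraMap K L).injective).1 h0
  have hyli : LinearIndependent K y := hyI.linearIndependent
  haveI : FiniteDimensional K W := FiniteDimensional.span_of_finite K (Set.finite_range y)
  obtain ⟨b, hbS, hbspan, hbli⟩ := exists_linearIndependent K S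
  rw [hspan] at hbspan
  let bb : Module.Basis b K W :=
    (Module.Basis.span hbli).map (LinearEquiv.ofEq _ _ (by rw [Subtype.range_coe]; exact hbspan))
  haveI : Fintype b := FiniteDimensional.fintypeBasisIndex bb
  have hcard : Fintype.card b = m := by
    rw [← Module.finrank_eq_card_basis bb, finrank_span_eq_card hyli, Fintype.card_fin]
  let e : Fin m ≃ b := (Fintype.equivFinOfCardEq hcard).symm
  set t : Fin m → L := fun i => (e i : L)
  have ht : Submodule.span K (Set.range t) = W := by
    rw [← hbspan]; congr 1; ext w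
    exact ⟨fun ⟨i, hi⟩ => hi ▸ (e i).2, fun hw => ⟨e.symm ⟨w, hw⟩, by simp [t]⟩⟩
  refine ⟨t, fun i => (hbS (e i).2).2, ht, ?_⟩
  -- linear changes of variables
  have hA : ∀ i, ∃ A : Fin m → K, ∑ j, A j • y j = t i := fun i =>
    (Submodule.mem_span_range_iff_exists_fun K).1 (hbS (e i).2).1
  have hB : ∀ i, ∃ B : Fin m → K, ∑ j, B j • t j = y i := fun i =>
    (Submodule.mem_span_range_iff_exists_fun K).1 (ht.ge (Submodule.subset_span ⟨i, rfl⟩))
  choose A hA using hA
  choose B hB using hB
  let φA : MvPolynomial (Fin m) K →ₐ[K] MvPolynomial (Fin m) K :=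
    aeval fun i => ∑ j, A i j • MvPolynomial.X j
  let φB : MvPolynomial (Fin m) K →ₐ[K] MvPolynomial (Fin m) K :=
    aeval fun i => ∑ j, B i j • MvPolynomial.X j
  have htli : LinearIndependent K t := hbli.comp e e.injective
  have hBA : φB.comp φA = AlgHom.id K _ := by
    refine algHom_ext fun i => ?_
    have hcoef : ∀ l, ∑ j, A i j * B j l = if l = i then 1 else 0 := by
      have h : ∑ l, ((∑ j, A i j * B j l) - if l = i then 1 else 0) • t l = 0 := by
        simp only [sub_smul, Finset.sum_sub_distrib, Finset.sum_smul, ite_smul, one_smul, zero_smul,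
          Finset.sum_ite_eq', Finset.mem_univ, if_true, mul_smul]
        rw [Finset.sum_comm]
        simp only [← Finset.smul_sum, hB, hA, sub_self]
      exact fun l => sub_eq_zero.1 (Fintype.linearIndependent_iff.1 htli _ h l)
    simp only [φA, φB, AlgHom.comp_apply, aeval_X, map_sum, map_smul, Finset.smul_sum, smul_smul,
      AlgHom.id_apply]
    rw [Finset.sum_comm]
    simp only [← Finset.sum_smul, hcoef, ite_smul, one_smul, zero_smul, Finset.sum_ite_eq',
      Finset.mem_univ, if_true]
  have hfac : (aeval y).comp φA = aeval t := by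
    refine algHom_ext fun i => ?_
    simp only [φA, AlgHom.comp_apply, aeval_X, map_sum, map_smul, hA]
  rw [algebraicIndependent_iff_injective_aeval, ← hfac, AlgHom.coe_comp]
  refine (algebraicIndependent_iff_injective_aeval.1 hyI).comp (Function.LeftInverse.injective (g := φB) fun p => ?_)
  exact congr($hBA p)

/-- invariant elements lie in the field generated by the invariant scalars and the invariant
variables -/
lemma fixed_eq [Finite G] (hK : ∀ σ ∈ G, ∀ a ∈ K, σ a ∈ K) {t : Fin m → L}
    (htG : ∀ i, t i ∈ IntermediateField.fixedField G) (htI : AlgebraicIndependent K t)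
    (hgen : IntermediateField.adjoin K (Set.range t) = ⊤) :
    IntermediateField.adjoin k (((K ⊓ IntermediateField.fixedField G : IntermediateField k L) : Set L)
      ∪ Set.range t) = IntermediateField.fixedField G := by
  classical
  letI := Fintype.ofFinite G
  refine le_antisymm (IntermediateField.adjoin_le_iff.2 ?_) fun f hf => ?_
  · rintro x (hx | ⟨i, rfl⟩)
    · exact hx.2
    · exact htG i
  set E := IntermediateField.adjoin k (((K ⊓ IntermediateField.fixedField G : IntermediateField k L) : Set L)
      ∪ Set.range t)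
  have hfix : ∀ σ ∈ G, ∀ i, σ (t i) = t i := fun σ hσ i =>
    (IntermediateField.mem_fixedField_iff _ _).1 (htG i) σ hσ
  let res : ∀ σ ∈ G, K →+* K := fun σ hσ =>
    ((σ : L →ₐ[k] L).toRingHom.comp (algebraMap K L)).codRestrict K fun a => hK σ hσ a a.2
  have hmap : ∀ σ (hσ : σ ∈ G) (P : MvPolynomial (Fin m) K),
      σ (aeval t P) = aeval t (MvPolynomial.map (res σ hσ) P) := by
    intro σ hσ P
    induction P using MvPolynomial.induction_on with
    | C a => simp only [map_C, aeval_C]; rfl
    | add P Q hP hQ => simp only [map_add, hP, hQ]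
    | mul_X P i hP => simp only [map_mul, hP, map_X, aeval_X, hfix σ hσ i]
  have hinv : ∀ z ∈ Algebra.adjoin K (Set.range t), z ∈ IntermediateField.fixedField G → z ∈ E := by
    intro z hz hzf
    rw [Algebra.adjoin_range_eq_range_aeval] at hz
    obtain ⟨P, rfl⟩ := hz
    have hc : ∀ d, ((P.coeff d : K) : L) ∈ IntermediateField.fixedField G := fun d => by
      rw [IntermediateField.mem_fixedField_iff]
      intro σ hσ
      have h1 : aeval t (MvPolynomial.map (res σ hσ) P) = aeval t P := by
        rw [← hmap σ hσ]; exact (IntermediateField.mem_fixedField_iff _ _).1 hzf σ hσ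
      have h2 := congrArg (MvPolynomial.coeff d) (algebraicIndependent_iff_injective_aeval.1 htI h1)
      rw [MvPolynomial.coeff_map] at h2
      exact congrArg Subtype.val h2
    show aeval t P ∈ E
    rw [aeval_def, eval₂_eq]
    refine sum_mem fun d _ => mul_mem ?_ (prod_mem fun i _ => pow_mem ?_ _)
    · exact IntermediateField.subset_adjoin k _ (Or.inl ⟨(P.coeff d).2, hc d⟩)
    · exact IntermediateField.subset_adjoin k _ (Or.inr ⟨i, rfl⟩)
  have hstab : ∀ σ ∈ G, ∀ z ∈ Algebra.adjoin K (Set.range t), σ z ∈ Algebra.adjoin K (Set.range t) := by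
    intro σ hσ z hz
    rw [Algebra.adjoin_range_eq_range_aeval] at hz ⊢
    obtain ⟨P, rfl⟩ := hz
    exact ⟨MvPolynomial.map (res σ hσ) P, (hmap σ hσ P).symm⟩
  obtain ⟨r, s, hrs⟩ := (IntermediateField.mem_adjoin_range_iff K t f).1 (hgen ▸ trivial)
  by_cases hs : aeval t s = 0
  · rw [hrs, hs, div_zero]; exact zero_mem _
  set N := ∏ σ : G, σ.1 (aeval t s) with hNdef
  have hN0 : N ≠ 0 := Finset.prod_ne_zero_iff.2 fun σ _ => by simpa using hs
  have hNfix : N ∈ IntermediateField.fixedField G := by
    rw [IntermediateField.mem_fixedField_iff]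
    intro τ hτ
    rw [map_prod]
    exact Fintype.prod_equiv (Equiv.mulLeft (⟨τ, hτ⟩ : G)) _ _ fun σ => rfl
  have hmemA : aeval t s ∈ Algebra.adjoin K (Set.range t) := by
    rw [Algebra.adjoin_range_eq_range_aeval]; exact ⟨s, rfl⟩
  have hN : N ∈ E := hinv _ (prod_mem fun σ _ => hstab _ σ.2 _ hmemA) hNfix
  have hfN : f * N ∈ E := by
    refine hinv _ ?_ (mul_mem hf hNfix)
    have e : f * N = aeval t r * ∏ σ ∈ (Finset.univ : Finset G).erase 1, σ.1 (aeval t s) := by
      rw [hNdef, ← Finset.mul_prod_erase _ _ (Finset.mem_univ (1 : G)), hrs,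
        show (1 : G).1 (aeval t s) = aeval t s from rfl]
      field_simp
    rw [e]
    refine mul_mem ?_ (prod_mem fun σ _ => hstab _ σ.2 _ hmemA)
    rw [Algebra.adjoin_range_eq_range_aeval]; exact ⟨r, rfl⟩
  have := div_mem hfN hN
  rwa [mul_div_cancel_right₀ _ hN0] at this

lemma adjoin_eq_top_of_span {y t : Fin m → L} (hy : IntermediateField.adjoin K (Set.range y) = ⊤)
    (h : Submodule.span K (Set.range t) = Submodule.span K (Set.range y)) :
    IntermediateField.adjoin K (Set.range t) = ⊤ := by
  rw [eq_top_iff, ← hy, IntermediateField.adjoin_le_iff]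
  intro x hx
  have hx' : x ∈ Submodule.span K (Set.range t) := h ▸ Submodule.subset_span hx
  have hle : Submodule.span K (Set.range t) ≤
      (IntermediateField.adjoin K (Set.range t)).toSubalgebra.toSubmodule :=
    Submodule.span_le.2 (IntermediateField.subset_adjoin K _)
  exact hle hx'

/-- The no-name lemma. -/
theorem exists_fixed_variables [Finite G] (hK : ∀ σ ∈ G, ∀ a ∈ K, σ a ∈ K)
    (hfaith : ∀ σ ∈ G, (∀ a ∈ K, σ a = a) → σ = 1) {y : Fin m → L}
    (hyI : AlgebraicIndependent K y)
    (hgen : IntermediateField.adjoin K (Set.range y) = ⊤)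
    (hy : ∀ σ ∈ G, ∀ i, σ (y i) ∈ Submodule.span K (Set.range y)) :
    ∃ t : Fin m → L,
      AlgebraicIndependent (↥(K ⊓ IntermediateField.fixedField G)) t ∧
      IntermediateField.restrictScalars k (IntermediateField.adjoin
        (↥(K ⊓ IntermediateField.fixedField G)) (Set.range t)) = IntermediateField.fixedField G ∧
      ∀ (F : Type*) [Field F] [Algebra k F] (j : F →ₐ[k] L),
        j.fieldRange = K ⊓ IntermediateField.fixedField G →
        Nonempty (InvFld.Fld (Fin m) F ≃ₐ[k] IntermediateField.fixedField G) := by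
  obtain ⟨t, htG, hspan, htI⟩ := exists_invariant_basis G hK hfaith hyI hy
  have hfix := fixed_eq G hK htG htI (adjoin_eq_top_of_span hgen hspan)
  refine ⟨t, ?_, ?_, fun F _ _ j hj => ?_⟩
  · letI : Algebra ↥(K ⊓ IntermediateField.fixedField G) K :=
      (IntermediateField.inclusion inf_le_left).toAlgebra
    haveI : IsScalarTower ↥(K ⊓ IntermediateField.fixedField G) K L := .of_algebraMap_eq fun _ => rfl
    exact htI.restrictScalars (algebraMap ↥(K ⊓ IntermediateField.fixedField G) ↥K).injective
  · rw [IntermediateField.restrictScalars_adjoin, hfix]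
  · let Φ : MvPolynomial (Fin m) F →ₐ[k] L :=
      { eval₂Hom j.toRingHom t with
        commutes' := fun c => by
          simp [MvPolynomial.algebraMap_apply] }
    let j' : F →+* K := j.toRingHom.codRestrict K fun a =>
      (hj.le ⟨a, rfl⟩ : j a ∈ K ⊓ IntermediateField.fixedField G).1
    have hΦ : ∀ P, Φ P = aeval t (MvPolynomial.map j' P) := by
      intro P
      rw [aeval_def, eval₂_map]
      rfl
    have hΦinj : Function.Injective Φ := fun P Q h => by
      rw [hΦ, hΦ] at h
      exact MvPolynomial.map_injective j' j'.injective (algebraicIndependent_iff_injective_aeval.1 htI h)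
    let ψ : InvFld.Fld (Fin m) F →ₐ[k] L := IsFractionRing.liftAlgHom hΦinj
    have hψ : ∀ P, ψ (algebraMap (MvPolynomial (Fin m) F) (InvFld.Fld (Fin m) F) P) = Φ P := fun P =>
      IsFractionRing.lift_algebraMap hΦinj P
    have hrange : ψ.fieldRange = IntermediateField.fixedField G := by
      refine le_antisymm ?_ ?_
      · rintro _ ⟨z, rfl⟩
        obtain ⟨a, b, -, rfl⟩ := IsFractionRing.div_surjective (MvPolynomial (Fin m) F) z
        have hmem : ∀ P, Φ P ∈ IntermediateField.fixedField G := by
          intro P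
          induction P using MvPolynomial.induction_on with
          | C a =>
            show eval₂Hom j.toRingHom t (C a) ∈ _
            rw [eval₂Hom_C]; exact (hj.le ⟨a, rfl⟩ : j a ∈ K ⊓ IntermediateField.fixedField G).2
          | add P Q hP hQ => rw [map_add]; exact add_mem hP hQ
          | mul_X P i hP =>
            rw [map_mul]
            refine mul_mem hP ?_
            show eval₂Hom j.toRingHom t (X i) ∈ _
            rw [eval₂Hom_X']; exact htG i
        show ψ (_ / _) ∈ _
        rw [map_div₀, hψ, hψ]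
        exact div_mem (hmem a) (hmem b)
      · conv_lhs => rw [← hfix]
        refine IntermediateField.adjoin_le_iff.2 ?_
        rintro x (hx | ⟨i, rfl⟩)
        · obtain ⟨a, rfl⟩ : x ∈ j.fieldRange := hj.ge hx
          exact ⟨algebraMap _ _ (C a), by show ψ _ = _; rw [hψ]; exact eval₂Hom_C _ _ a⟩
        · exact ⟨algebraMap _ _ (X i), by show ψ _ = _; rw [hψ]; exact eval₂Hom_X' _ _ i⟩
    exact ⟨(AlgEquiv.ofInjectiveField ψ).trans (IntermediateField.equivOfEq hrange)⟩

end NoName
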