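import Groth.Agent.Lib.InvFld.Vars

/-!
Two linear actions of a group on rational function fields, and their diagonal action.
-/

set_option linter.style.haveILetI false

namespace NoName

open MvPolynomial

universe u

variable {k : Type u} [Field k]

lemma toFld_rename_injective {α σ : Type} (a : α → σ) (ha : Function.Injective a) :
    Function.Injective ((IsScalarTower.toAlgHom k (MvPolynomial σ k) (InvFld.Fld σ k)).comp
      (rename a)) :=
  (IsFractionRing.injective (MvPolynomial σ k) (InvFld.Fld σ k)).comp (rename_injective a ha)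

/-- The embedding of function fields attached to an injection of variables. -/
noncomputable def emb {α σ : Type} (a : α → σ) (ha : Function.Injective a) :
    InvFld.Fld α k →ₐ[k] InvFld.Fld σ k :=
  IsFractionRing.liftAlgHom (toFld_rename_injective a ha)

lemma emb_algebraMap {α σ : Type} (a : α → σ) (ha : Function.Injective a) (P : MvPolynomial α k) :
    emb a ha (algebraMap (MvPolynomial α k) (InvFld.Fld α k) P)
      = algebraMap (MvPolynomial σ k) (InvFld.Fld σ k) (rename a P) :=
  IsFractionRing.lift_algebraMap (toFld_rename_injective a ha) P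

lemma emb_X {α σ : Type} (a : α → σ) (ha : Function.Injective a) (i : α) :
    emb a ha (InvFld.X i : InvFld.Fld α k) = InvFld.X (a i) := by
  rw [InvFld.X, emb_algebraMap, rename_X]

lemma fieldRange_emb {α σ : Type} (a : α → σ) (ha : Function.Injective a) :
    (emb (k := k) a ha).fieldRange
      = IntermediateField.adjoin k (Set.range fun i => (InvFld.X (a i) : InvFld.Fld σ k)) := by
  rw [AlgHom.fieldRange_eq_map, ← adjoin_range_fldX, IntermediateField.adjoin_map, ← Set.range_comp]
  congr 1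
  ext x
  simp [emb_X]

lemma emb_mem_span {n : ℕ} {σ : Type} (a : Fin n → σ) (ha : Function.Injective a)
    {v : InvFld.Fld (Fin n) k}
    (hv : v ∈ Submodule.span k (Set.range (InvFld.X : Fin n → InvFld.Fld (Fin n) k))) :
    emb a ha v ∈ Submodule.span k (Set.range fun i => (InvFld.X (a i) : InvFld.Fld σ k)) := by
  have := Submodule.mem_map_of_mem (f := (emb (k := k) a ha).toLinearMap) hv
  rw [Submodule.map_span, ← Set.range_comp] at this
  have he : (fun i => (InvFld.X (a i) : InvFld.Fld σ k))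
      = (emb (k := k) a ha).toLinearMap ∘ InvFld.X := funext fun i => (emb_X a ha i).symm
  rw [he]
  exact this

attribute [irreducible] emb

/-- Function field of the sum of two representations, over that of one of them. -/
theorem nonempty_equiv_fixedField {σ : Type} {n m : ℕ} (a : Fin n → σ) (b : Fin m → σ)
    (ha : Function.Injective a) (hab : Function.Bijective (Sum.elim b a))
    {G : Type*} [Group G] [Finite G]
    (ρ : G →* (InvFld.Fld σ k ≃ₐ[k] InvFld.Fld σ k))
    (ρn : G →* (InvFld.Fld (Fin n) k ≃ₐ[k] InvFld.Fld (Fin n) k)) (hρn : Function.Injective ρn)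
    (hcompat : ∀ g z, ρ g (emb a ha z) = emb a ha (ρn g z))
    (hb : ∀ g i, ρ g (InvFld.X (b i)) ∈
      Submodule.span k (Set.range fun j => (InvFld.X (b j) : InvFld.Fld σ k))) :
    Nonempty (InvFld.Fld (Fin m) (IntermediateField.fixedField ρn.range) ≃ₐ[k]
      IntermediateField.fixedField ρ.range) := by
  set Kx := IntermediateField.adjoin k (Set.range fun i => (InvFld.X (a i) : InvFld.Fld σ k))
    with hKx
  have hr : (emb (k := k) a ha).fieldRange = Kx := fieldRange_emb a ha
  haveI : Finite ρ.range := Finite.of_surjective _ ρ.rangeRestrict_surjective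
  have hK : ∀ s ∈ ρ.range, ∀ z ∈ Kx, s z ∈ Kx := by
    rintro _ ⟨g, rfl⟩ z hz
    rw [← hr] at hz ⊢
    obtain ⟨w, rfl⟩ := hz
    exact ⟨ρn g w, (hcompat g w).symm⟩
  have hf : ∀ s ∈ ρ.range, (∀ z ∈ Kx, s z = z) → s = 1 := by
    rintro _ ⟨g, rfl⟩ h
    have hg : ρn g = 1 := by
      ext w
      apply (emb (k := k) a ha).injective
      show emb a ha (ρn g w) = emb a ha w
      rw [← hcompat]
      exact h _ (hr ▸ ⟨w, rfl⟩)
    rw [hρn (hg.trans (map_one ρn).symm), map_one]
  have hI : AlgebraicIndependent Kx (fun i => (InvFld.X (b i) : InvFld.Fld σ k)) := by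
    have h := algebraicIndependent_fldX (k := k) |>.comp (Sum.elim b a) hab.1
    rw [Sum.comp_elim] at h
    exact IntermediateField.algebraicIndependent_adjoin_iff.2 (AlgebraicIndependent.sumElim_iff.1 h).2
  have hgen : IntermediateField.adjoin Kx
      (Set.range fun i => (InvFld.X (b i) : InvFld.Fld σ k)) = ⊤ := by
    apply IntermediateField.restrictScalars_injective k
    rw [IntermediateField.adjoin_adjoin_left, IntermediateField.restrictScalars_top, eq_top_iff,
      ← adjoin_range_fldX]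
    refine IntermediateField.adjoin.mono k _ _ ?_
    rintro _ ⟨s, rfl⟩
    obtain ⟨(i | j), rfl⟩ := hab.2 s
    exacts [Or.inr ⟨i, rfl⟩, Or.inl ⟨j, rfl⟩]
  obtain ⟨t, -, -, h⟩ := exists_fixed_variables.{u, u, u} ρ.range hK hf hI hgen (by
    rintro _ ⟨g, rfl⟩ i
    exact Submodule.span_le_restrictScalars k _ _ (hb g i))
  refine h _ ((emb a ha).comp (IntermediateField.fixedField ρn.range).val) ?_
  ext z
  simp only [AlgHom.mem_fieldRange, IntermediateField.mem_inf, AlgHom.comp_apply]
  constructor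
  · rintro ⟨w, rfl⟩
    refine ⟨hr ▸ ⟨w.1, rfl⟩, ?_⟩
    rw [IntermediateField.mem_fixedField_iff]
    rintro _ ⟨g, rfl⟩
    rw [hcompat]
    exact congrArg _ ((IntermediateField.mem_fixedField_iff _ _).1 w.2 _ ⟨g, rfl⟩)
  · rintro ⟨hz, hzf⟩
    obtain ⟨w, rfl⟩ := hr ▸ hz
    refine ⟨⟨w, ?_⟩, rfl⟩
    rw [IntermediateField.mem_fixedField_iff]
    rintro _ ⟨g, rfl⟩
    apply (emb (k := k) a ha).injective
    exact (hcompat g w).symm.trans ((IntermediateField.mem_fixedField_iff _ _).1 hzf _ ⟨g, rfl⟩)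

variable {G : Type*} [Group G]

/-- Lifts of a linear action to polynomials. -/
lemma exists_polys {n : ℕ} (ρn : G →* (InvFld.Fld (Fin n) k ≃ₐ[k] InvFld.Fld (Fin n) k))
    (hn : ∀ g i, ρn g (InvFld.X i) ∈
      Submodule.span k (Set.range (InvFld.X : Fin n → InvFld.Fld (Fin n) k))) :
    ∃ q : G → (MvPolynomial (Fin n) k →ₐ[k] MvPolynomial (Fin n) k),
      (∀ g P, algebraMap _ (InvFld.Fld (Fin n) k) (q g P) = ρn g (algebraMap _ _ P)) ∧
      (∀ g h P, q (g * h) P = q g (q h P)) ∧ ∀ P, q 1 P = P := by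
  choose c hc using fun g i => (Submodule.mem_span_range_iff_exists_fun k).1 (hn g i)
  let q := fun g => MvPolynomial.aeval (R := k) fun i => ∑ j, c g i j • (MvPolynomial.X j : MvPolynomial (Fin n) k)
  have hq : ∀ g P, algebraMap _ (InvFld.Fld (Fin n) k) (q g P) = ρn g (algebraMap _ _ P) := by
    intro g P
    have : (IsScalarTower.toAlgHom k (MvPolynomial (Fin n) k) (InvFld.Fld (Fin n) k)).comp (q g)
        = (ρn g).toAlgHom.comp (IsScalarTower.toAlgHom k _ _) := by
      refine MvPolynomial.algHom_ext fun i => ?_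
      simp only [q, AlgHom.comp_apply, aeval_X, map_sum, map_smul]
      exact hc g i
    exact congr($this P)
  refine ⟨q, hq, fun g h P => IsFractionRing.injective _ (InvFld.Fld (Fin n) k) ?_,
    fun P => IsFractionRing.injective _ (InvFld.Fld (Fin n) k) ?_⟩
  · rw [hq, hq, hq, map_mul]; rfl
  · rw [hq, map_one]; rfl

lemma comm_emb {α σ : Type} (a : α → σ) (ha : Function.Injective a)
    (F : InvFld.Fld σ k ≃ₐ[k] InvFld.Fld σ k) (f : InvFld.Fld α k ≃ₐ[k] InvFld.Fld α k)
    (Φ : MvPolynomial σ k →ₐ[k] MvPolynomial σ k) (p : MvPolynomial α k →ₐ[k] MvPolynomial α k)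
    (hF : ∀ P, F (algebraMap _ _ P) = algebraMap _ _ (Φ P))
    (hf : ∀ P, algebraMap _ (InvFld.Fld α k) (p P) = f (algebraMap _ _ P))
    (hp : ∀ P, Φ (rename a P) = rename a (p P)) (z : InvFld.Fld α k) :
    F (emb a ha z) = emb a ha (f z) := by
  have : (F.toAlgHom.comp (emb a ha)) = (emb a ha).comp f.toAlgHom := algEquiv_ext fun i => by
    simp only [InvFld.X, AlgHom.comp_apply]
    show F (emb a ha _) = emb a ha (f _)
    rw [emb_algebraMap, hF, hp, ← hf, emb_algebraMap]
  exact congr($this z)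

/-- The diagonal action. -/
lemma exists_diag {n m : ℕ} (ρn : G →* (InvFld.Fld (Fin n) k ≃ₐ[k] InvFld.Fld (Fin n) k))
    (ρm : G →* (InvFld.Fld (Fin m) k ≃ₐ[k] InvFld.Fld (Fin m) k))
    (hn : ∀ g i, ρn g (InvFld.X i) ∈
      Submodule.span k (Set.range (InvFld.X : Fin n → InvFld.Fld (Fin n) k)))
    (hm : ∀ g i, ρm g (InvFld.X i) ∈
      Submodule.span k (Set.range (InvFld.X : Fin m → InvFld.Fld (Fin m) k))) :
    ∃ ρ : G →* (InvFld.Fld (Fin n ⊕ Fin m) k ≃ₐ[k] InvFld.Fld (Fin n ⊕ Fin m) k),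
      (∀ g z, ρ g (emb Sum.inl Sum.inl_injective z) = emb Sum.inl Sum.inl_injective (ρn g z)) ∧
      ∀ g z, ρ g (emb Sum.inr Sum.inr_injective z) = emb Sum.inr Sum.inr_injective (ρm g z) := by
  obtain ⟨p, hp, hpm, hp1⟩ := exists_polys ρn hn
  obtain ⟨q, hq, hqm, hq1⟩ := exists_polys ρm hm
  let Φ : G → (MvPolynomial (Fin n ⊕ Fin m) k →ₐ[k] MvPolynomial (Fin n ⊕ Fin m) k) := fun g =>
    aeval (Sum.elim (fun i => rename Sum.inl (p g (X i))) (fun i => rename Sum.inr (q g (X i))))
  have hl : ∀ g P, Φ g (rename Sum.inl P) = rename Sum.inl (p g P) := by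
    intro g P
    have : (Φ g).comp (rename Sum.inl) = (rename Sum.inl).comp (p g) :=
      MvPolynomial.algHom_ext fun i => by simp [Φ]
    exact congr($this P)
  have hr : ∀ g P, Φ g (rename Sum.inr P) = rename Sum.inr (q g P) := by
    intro g P
    have : (Φ g).comp (rename Sum.inr) = (rename Sum.inr).comp (q g) :=
      MvPolynomial.algHom_ext fun i => by simp [Φ]
    exact congr($this P)
  have hmul : ∀ g h, (Φ g).comp (Φ h) = Φ (g * h) := fun g h => by
    refine MvPolynomial.algHom_ext ?_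
    rintro (i | i)
    · simp only [AlgHom.comp_apply, ← rename_X (R := k) Sum.inl, hl, hpm]
    · simp only [AlgHom.comp_apply, ← rename_X (R := k) Sum.inr, hr, hqm]
  have hone : Φ 1 = AlgHom.id k _ := by
    refine MvPolynomial.algHom_ext ?_
    rintro (i | i)
    · simp only [AlgHom.id_apply, ← rename_X (R := k) Sum.inl, hl, hp1]
    · simp only [AlgHom.id_apply, ← rename_X (R := k) Sum.inr, hr, hq1]
  let E : G → (MvPolynomial (Fin n ⊕ Fin m) k ≃ₐ[k] MvPolynomial (Fin n ⊕ Fin m) k) := fun g =>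
    AlgEquiv.ofAlgHom (Φ g) (Φ g⁻¹) (by rw [hmul, mul_inv_cancel, hone])
      (by rw [hmul, inv_mul_cancel, hone])
  let F : G → (InvFld.Fld (Fin n ⊕ Fin m) k ≃ₐ[k] InvFld.Fld (Fin n ⊕ Fin m) k) := fun g =>
    IsFractionRing.algEquivOfAlgEquiv (E g)
  have hF : ∀ g P, F g (algebraMap _ _ P) = algebraMap _ _ (Φ g P) := fun g P =>
    IsFractionRing.algEquivOfAlgEquiv_algebraMap (E g) P
  let ρ : G →* (InvFld.Fld (Fin n ⊕ Fin m) k ≃ₐ[k] InvFld.Fld (Fin n ⊕ Fin m) k) :=
    MonoidHom.mk' F fun g h => AlgEquiv.coe_toAlgHom_injective <| algEquiv_ext fun i => by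
      show F (g * h) (algebraMap _ _ _) = F g (F h (algebraMap _ _ _))
      rw [hF, hF, hF, ← hmul]; rfl
  exact ⟨ρ, fun g => comm_emb Sum.inl Sum.inl_injective (F g) (ρn g) (Φ g) (p g) (hF g) (hp g) (hl g),
    fun g => comm_emb Sum.inr Sum.inr_injective (F g) (ρm g) (Φ g) (q g) (hF g) (hq g) (hr g)⟩

/-- Two faithful linear actions have stably equivalent fields of invariants. -/
theorem stably_equiv [Finite G] {n m : ℕ}
    (ρn : G →* (InvFld.Fld (Fin n) k ≃ₐ[k] InvFld.Fld (Fin n) k)) (hρn : Function.Injective ρn)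
    (ρm : G →* (InvFld.Fld (Fin m) k ≃ₐ[k] InvFld.Fld (Fin m) k)) (hρm : Function.Injective ρm)
    (hn : ∀ g i, ρn g (InvFld.X i) ∈
      Submodule.span k (Set.range (InvFld.X : Fin n → InvFld.Fld (Fin n) k)))
    (hm : ∀ g i, ρm g (InvFld.X i) ∈
      Submodule.span k (Set.range (InvFld.X : Fin m → InvFld.Fld (Fin m) k))) :
    Nonempty (InvFld.Fld (Fin m) (IntermediateField.fixedField ρn.range) ≃ₐ[k]
      InvFld.Fld (Fin n) (IntermediateField.fixedField ρm.range)) := by
  obtain ⟨ρ, h1, h2⟩ := exists_diag ρn ρm hn hm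
  obtain ⟨e1⟩ := nonempty_equiv_fixedField Sum.inl Sum.inr Sum.inl_injective
    (Equiv.sumComm (Fin m) (Fin n)).bijective ρ ρn hρn h1 fun g i => by
      have h := emb_mem_span (σ := Fin n ⊕ Fin m) Sum.inr Sum.inr_injective (hm g i)
      rwa [← h2, emb_X] at h
  obtain ⟨e2⟩ := nonempty_equiv_fixedField Sum.inr Sum.inl Sum.inr_injective
    (by convert Function.bijective_id using 1; ext (_ | _) <;> rfl) ρ ρm hρm h2 fun g i => by
      have h := emb_mem_span (σ := Fin n ⊕ Fin m) Sum.inl Sum.inl_injective (hn g i)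
      rwa [← h1, emb_X] at h
  exact ⟨e1.trans e2.symm⟩

end NoName
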