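import Groth.Agent.Lib.InvFld.Pair

/-!
The symmetric group permuting the variables; its field of invariants is rational.
-/

namespace NoName

open MvPolynomial

universe u

variable {k : Type u} [Field k] {n : ℕ}

variable (k n) in
/-- Permutation of variables on the function field. -/
noncomputable def permHom :
    Equiv.Perm (Fin n) →* (InvFld.Fld (Fin n) k ≃ₐ[k] InvFld.Fld (Fin n) k) :=
  MonoidHom.mk' (fun e => IsFractionRing.algEquivOfAlgEquiv (renameEquiv k e)) fun e f =>
    AlgEquiv.coe_toAlgHom_injective <| algEquiv_ext fun i => by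
      simp [InvFld.X, IsFractionRing.algEquivOfAlgEquiv_algebraMap, AlgEquiv.mul_apply]

lemma permHom_algebraMap (e : Equiv.Perm (Fin n)) (P : MvPolynomial (Fin n) k) :
    permHom k n e (algebraMap _ _ P) = algebraMap _ (InvFld.Fld (Fin n) k) (rename e P) :=
  IsFractionRing.algEquivOfAlgEquiv_algebraMap (renameEquiv k e) P

lemma permHom_X (e : Equiv.Perm (Fin n)) (i : Fin n) :
    permHom k n e (InvFld.X i) = InvFld.X (e i) := by
  rw [InvFld.X, permHom_algebraMap, rename_X]

lemma permHom_injective : Function.Injective (permHom k n) := by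
  intro e f h
  ext i
  have : (InvFld.X (e i) : InvFld.Fld (Fin n) k) = InvFld.X (f i) := by
    rw [← permHom_X, ← permHom_X, h]
  exact congrArg Fin.val ((algebraicIndependent_fldX (k := k)).injective this)

/-- The fundamental theorem on symmetric functions. -/
theorem nonempty_equiv_fixedField_perm :
    Nonempty (InvFld.Fld (Fin n) k ≃ₐ[k] IntermediateField.fixedField (permHom k n).range) := by
  classical
  let e := esymmAlgEquiv (Fin n) k (n := n) (Fintype.card_fin n)
  let Φ : MvPolynomial (Fin n) k →ₐ[k] InvFld.Fld (Fin n) k :=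
    (IsScalarTower.toAlgHom k _ _).comp ((symmetricSubalgebra (Fin n) k).val.comp e.toAlgHom)
  have hΦ : Function.Injective Φ :=
    (IsFractionRing.injective (MvPolynomial (Fin n) k) (InvFld.Fld (Fin n) k)).comp
      (Subtype.val_injective.comp e.injective)
  let ψ : InvFld.Fld (Fin n) k →ₐ[k] InvFld.Fld (Fin n) k := IsFractionRing.liftAlgHom hΦ
  have hψ : ∀ P, ψ (algebraMap _ _ P) = Φ P := fun P => IsFractionRing.lift_algebraMap hΦ P
  have hfixΦ : ∀ P, Φ P ∈ IntermediateField.fixedField (permHom k n).range := fun P => by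
    rw [IntermediateField.mem_fixedField_iff]
    rintro _ ⟨f, rfl⟩
    show permHom k n f (algebraMap _ _ ((e P).1)) = algebraMap _ _ ((e P).1)
    rw [permHom_algebraMap, (e P).2 f]
  have hsymm : ∀ P : MvPolynomial (Fin n) k, algebraMap _ (InvFld.Fld (Fin n) k) P ∈
      IntermediateField.fixedField (permHom k n).range → algebraMap _ _ P ∈ ψ.fieldRange := by
    intro P hP
    have hs : P ∈ symmetricSubalgebra (Fin n) k := fun f => by
      apply IsFractionRing.injective (MvPolynomial (Fin n) k) (InvFld.Fld (Fin n) k)
      rw [← permHom_algebraMap]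
      exact (IntermediateField.mem_fixedField_iff _ _).1 hP _ ⟨f, rfl⟩
    refine ⟨algebraMap _ _ (e.symm ⟨P, hs⟩), ?_⟩
    show ψ _ = _
    rw [hψ]
    show algebraMap _ _ ((e (e.symm ⟨P, hs⟩)).1) = _
    rw [AlgEquiv.apply_symm_apply]
  have hrange : ψ.fieldRange = IntermediateField.fixedField (permHom k n).range := by
    refine le_antisymm ?_ fun z hz => ?_
    · rintro _ ⟨z, rfl⟩
      obtain ⟨a, b, -, rfl⟩ := IsFractionRing.div_surjective (MvPolynomial (Fin n) k) z
      show ψ (_ / _) ∈ _
      rw [map_div₀, hψ, hψ]
      exact div_mem (hfixΦ a) (hfixΦ b)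
    · obtain ⟨a, b, hb, hzab⟩ := IsFractionRing.div_surjective (MvPolynomial (Fin n) k) z
      set N := ∏ f : Equiv.Perm (Fin n), rename f b
      have hb0 : b ≠ 0 := nonZeroDivisors.ne_zero hb
      have hN0 : algebraMap _ (InvFld.Fld (Fin n) k) N ≠ 0 := by
        rw [map_ne_zero_iff _ (IsFractionRing.injective (MvPolynomial (Fin n) k) (InvFld.Fld (Fin n) k))]
        exact Finset.prod_ne_zero_iff.2 fun f _ =>
          (map_ne_zero_iff _ (rename_injective _ f.injective)).2 hb0
      have hNf : algebraMap _ _ N ∈ IntermediateField.fixedField (permHom k n).range := by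
        rw [IntermediateField.mem_fixedField_iff]
        rintro _ ⟨g, rfl⟩
        rw [permHom_algebraMap, map_prod]
        congr 1
        refine Fintype.prod_equiv (Equiv.mulLeft g) _ _ fun f => ?_
        rw [rename_rename]; rfl
      have hN : N = b * ∏ f ∈ (Finset.univ : Finset (Equiv.Perm (Fin n))).erase 1, rename f b := by
        have h1 : rename (⇑(1 : Equiv.Perm (Fin n))) b = b := by
          rw [Equiv.Perm.coe_one, rename_id]; rfl
        have h2 := Finset.mul_prod_erase Finset.univ (fun f : Equiv.Perm (Fin n) => rename f b)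
          (Finset.mem_univ 1)
        rw [h1] at h2
        exact h2.symm
      have hzN : z * algebraMap _ _ N = algebraMap _ _
          (a * ∏ f ∈ (Finset.univ : Finset (Equiv.Perm (Fin n))).erase 1, rename f b) := by
        have : algebraMap _ (InvFld.Fld (Fin n) k) b ≠ 0 := by
          rwa [map_ne_zero_iff _ (IsFractionRing.injective (MvPolynomial (Fin n) k) (InvFld.Fld (Fin n) k))]
        rw [hN, ← hzab, map_mul, map_mul]
        field_simp
      have h1 : z * algebraMap _ _ N ∈ ψ.fieldRange := by
        rw [hzN]
        refine hsymm _ ?_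
        rw [← hzN]
        exact mul_mem hz hNf
      have := div_mem h1 (hsymm _ hNf)
      rwa [mul_div_cancel_right₀ _ hN0] at this
  exact ⟨(AlgEquiv.ofInjectiveField ψ).trans (IntermediateField.equivOfEq hrange)⟩

end NoName
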