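import Groth.Agent.Lib.InvFld.Vars

/-!
Iterated rational function fields.
-/

namespace NoName

variable {k : Type*} [Field k]

lemma exists_generators {F L : Type*} [Field F] [Algebra k F] [Field L] [Algebra k L] {n m : ℕ}
    (ι : InvFld.Fld (Fin n) k ≃ₐ[k] F) (e : InvFld.Fld (Fin m) F ≃ₐ[k] L) :
    ∃ t : Fin (m + n) → L, AlgebraicIndependent k t ∧ IntermediateField.adjoin k (Set.range t) = ⊤ := by
  set x : Fin n → F := fun i => ι (InvFld.X i) with hx
  have hxI : AlgebraicIndependent k x :=
    algebraicIndependent_fldX.map' (f := ι.toAlgHom) ι.injective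
  have hxtop : IntermediateField.adjoin k (Set.range x) = ⊤ := by
    have h := IntermediateField.adjoin_map k (Set.range (InvFld.X : Fin n → InvFld.Fld (Fin n) k))
      ι.toAlgHom
    rw [adjoin_range_fldX, ← Set.range_comp, ← AlgHom.fieldRange_eq_map] at h
    rw [eq_top_iff]
    intro z _
    exact h.le (by exact ⟨ι.symm z, ι.apply_symm_apply z⟩)
  set u : Fin m ⊕ Fin n → InvFld.Fld (Fin m) F :=
    Sum.elim InvFld.X (algebraMap F (InvFld.Fld (Fin m) F) ∘ x) with hu
  have huI : AlgebraicIndependent k u :=
    AlgebraicIndependent.sumElim_comp hxI algebraicIndependent_fldX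
  have hutop : IntermediateField.adjoin k (Set.range u) = ⊤ := by
    have hF : ∀ z : F, algebraMap F (InvFld.Fld (Fin m) F) z ∈ IntermediateField.adjoin k (Set.range u) := by
      intro z
      have hz : z ∈ IntermediateField.adjoin k (Set.range x) := hxtop ▸ trivial
      have hle : (IntermediateField.adjoin k (Set.range x)).map
          (IsScalarTower.toAlgHom k F (InvFld.Fld (Fin m) F)) ≤ IntermediateField.adjoin k (Set.range u) := by
        rw [IntermediateField.adjoin_map, ← Set.range_comp]
        refine IntermediateField.adjoin.mono k _ _ ?_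
        rintro _ ⟨i, rfl⟩
        exact ⟨Sum.inr i, rfl⟩
      exact hle ⟨z, hz, rfl⟩
    rw [eq_top_iff]
    intro z _
    have hz : z ∈ IntermediateField.adjoin F (Set.range (InvFld.X : Fin m → InvFld.Fld (Fin m) F)) :=
      adjoin_range_fldX (k := F) ▸ trivial
    induction hz using IntermediateField.adjoin_induction with
    | mem y hy => obtain ⟨i, rfl⟩ := hy; exact IntermediateField.subset_adjoin k _ ⟨Sum.inl i, rfl⟩
    | algebraMap y => exact hF y
    | add _ _ _ _ ha hb => exact add_mem (ha trivial) (hb trivial)
    | inv _ _ ha => exact inv_mem (ha trivial)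
    | mul _ _ _ _ ha hb => exact mul_mem (ha trivial) (hb trivial)
  refine ⟨e ∘ u ∘ finSumFinEquiv.symm, ?_, ?_⟩
  · exact (huI.comp _ finSumFinEquiv.symm.injective).map' (f := e.toAlgHom) e.injective
  · have h := IntermediateField.adjoin_map k (Set.range u) e.toAlgHom
    rw [hutop, ← Set.range_comp, ← AlgHom.fieldRange_eq_map] at h
    rw [eq_top_iff]
    intro z _
    have hz := h.le (by exact ⟨e.symm z, e.apply_symm_apply z⟩ : z ∈ e.toAlgHom.fieldRange)
    rw [Set.range_comp e, Set.range_comp u, Equiv.range_eq_univ, Set.image_univ, ← Set.range_comp]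
    exact hz

end NoName
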