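import Groth.Agent.Lib.InvFld.Descent

/-!
Generalities on the variables of a rational function field.
-/

namespace NoName

open MvPolynomial

variable {k : Type*} [Field k] {σ : Type*}

lemma algebraicIndependent_fldX : AlgebraicIndependent k (InvFld.X : σ → InvFld.Fld σ k) :=
  (MvPolynomial.algebraicIndependent_X σ k).map' (f := IsScalarTower.toAlgHom k _ _)
    (IsFractionRing.injective (MvPolynomial σ k) (InvFld.Fld σ k))

lemma algebraMap_eq_aeval (P : MvPolynomial σ k) :
    algebraMap (MvPolynomial σ k) (InvFld.Fld σ k) P = aeval InvFld.X P := by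
  have : IsScalarTower.toAlgHom k (MvPolynomial σ k) (InvFld.Fld σ k) = aeval InvFld.X :=
    algHom_ext fun i => by simp [InvFld.X]
  exact congr($this P)

lemma adjoin_range_fldX : IntermediateField.adjoin k (Set.range (InvFld.X : σ → InvFld.Fld σ k)) = ⊤ := by
  refine eq_top_iff.2 fun z _ => ?_
  obtain ⟨a, b, -, rfl⟩ := IsFractionRing.div_surjective (MvPolynomial σ k) z
  have h : ∀ P, algebraMap (MvPolynomial σ k) (InvFld.Fld σ k) P ∈
      IntermediateField.adjoin k (Set.range (InvFld.X : σ → InvFld.Fld σ k)) := by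
    intro P
    rw [algebraMap_eq_aeval]
    refine IntermediateField.algebra_adjoin_le_adjoin k _ ?_
    rw [Algebra.adjoin_range_eq_range_aeval]
    exact ⟨P, rfl⟩
  exact div_mem (h a) (h b)

lemma algEquiv_ext {L : Type*} [Field L] [Algebra k L] {f g : InvFld.Fld σ k →ₐ[k] L}
    (h : ∀ i, f (InvFld.X i) = g (InvFld.X i)) : f = g := by
  refine IsLocalization.algHom_ext (nonZeroDivisors (MvPolynomial σ k)) ?_
  exact MvPolynomial.algHom_ext fun i => h i

variable {n m : ℕ}

lemma algebraicIndependent_inr :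
    AlgebraicIndependent
      (IntermediateField.adjoin k (Set.range fun j : Fin n =>
        (InvFld.X (Sum.inl j) : InvFld.Fld (Fin n ⊕ Fin m) k)))
      (fun i : Fin m => (InvFld.X (Sum.inr i) : InvFld.Fld (Fin n ⊕ Fin m) k)) := by
  have h : AlgebraicIndependent k (Sum.elim
      (fun i : Fin m => (InvFld.X (Sum.inr i) : InvFld.Fld (Fin n ⊕ Fin m) k))
      (fun j : Fin n => (InvFld.X (Sum.inl j) : InvFld.Fld (Fin n ⊕ Fin m) k))) := by
    convert algebraicIndependent_fldX.comp _ (Equiv.sumComm (Fin m) (Fin n)).injective using 1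
    ext (_ | _) <;> rfl
  exact IntermediateField.algebraicIndependent_adjoin_iff.2 (AlgebraicIndependent.sumElim_iff.1 h).2

lemma adjoin_inr_eq_top :
    IntermediateField.adjoin
      (IntermediateField.adjoin k (Set.range fun j : Fin n =>
        (InvFld.X (Sum.inl j) : InvFld.Fld (Fin n ⊕ Fin m) k)))
      (Set.range fun i : Fin m => (InvFld.X (Sum.inr i) : InvFld.Fld (Fin n ⊕ Fin m) k)) = ⊤ := by
  apply IntermediateField.restrictScalars_injective k
  rw [IntermediateField.adjoin_adjoin_left, IntermediateField.restrictScalars_top, eq_top_iff,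
    ← adjoin_range_fldX]
  refine IntermediateField.adjoin.mono k _ _ ?_
  rintro _ ⟨(j | i), rfl⟩
  exacts [Or.inl ⟨j, rfl⟩, Or.inr ⟨i, rfl⟩]

end NoName
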